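import Cfsg.Agent.H25.S8.Norm
import Cfsg.Agent.H630.NHBabyD
import Cfsg.Agent.H715.Mon.Exact
import Cfsg.Agent.H954.DR.CentB
import Cfsg.Agent.S3331

/-!
# The Baby Monster has no subgroup of order `3 ^ 11` normalised by an element of order 23 (helper25, S4908)
-/

set_option autoImplicit false
set_option maxRecDepth 100000

namespace Cfsg.Agent.H25.S8

open Cfsg Cfsg.Agent Cfsg.Agent.MonsterX Cfsg.Agent.MonsterX.InstData Cfsg.Agent.MonsterX.MainPack Cfsg.Agent.MonsterU
open Cfsg.Agent.MonsterP Cfsg.Agent.MonsterN Cfsg.Agent.LThree Cfsg.Agent.LThreeMB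
open Cfsg.Agent.MonsterX.MainBasic Cfsg.Agent.MonsterX.MainSimple Cfsg.Agent.MonsterX.Model
open Cfsg.Agent.LThreeB (XT mem_XT centXT centXT' conjXT)
open Subgroup (centralizer mem_centralizer_singleton_iff center card_dvd_of_le normalizer zpowers)
open Cfsg.Spor (Co1)
open Cfsg.Agent.H979.BAdj Cfsg.Agent.H979.CovLift Cfsg.Agent.H979.OddB
open Cfsg.Agent.H630.NH Cfsg.Agent.H241.NH
open Cfsg.Agent.H630.Baby

universe u

theorem sThree : H715.Mon.Grp.SThree.{0} := fun _ _ _ X hX hC => S3331.result X hX hC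

/-- an element of order 3 commuting with one of order 11: `3 ^ 11` does not divide the order of the centralizer -/
theorem three_eleven {L : Type u} [Group L] (h : Spor.IsoB L) {v u : L} (hv : orderOf v = 3) (hu : orderOf u = 11)
    (hvu : v * u = u * v) : ¬ 3 ^ 11 ∣ Nat.card ↥(centralizer ({v} : Set L)) := by
  have hN := NotCT.Orders.b h
  have hL : Finite L := Nat.finite_of_card_ne_zero (by rw [hN]; norm_num)
  have hfin : Finite Mon := MThirteen.Row.finite
  intro hd
  obtain ⟨t, ht, h2, ⟨e⟩⟩ := exists_cover h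
  obtain ⟨a, ha, ha'⟩ := exists_lift h2 Nat.prime_three (by norm_num) (x := e.symm v) (by rw [MulEquiv.orderOf_eq, hv])
  obtain ⟨b, hb, hb'⟩ := exists_lift h2 (by norm_num : Nat.Prime 11) (by norm_num) (x := e.symm u)
    (by rw [MulEquiv.orderOf_eq, hu])
  have hab : a * b = b * a := lift_comm le_rfl h2 (by decide : Odd 3) (by rw [← ha, pow_orderOf_eq_one])
    (by rw [ha', hb', ← map_mul, hvu, map_mul])
  refine three11 (y := (a : Mon)) (x := (b : Mon)) (by rw [Subgroup.orderOf_coe, ha]) ht
    (mem_centralizer_singleton_iff.1 a.2) (by rw [Subgroup.orderOf_coe, hb]) (mem_centralizer_singleton_iff.1 b.2)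
    (congrArg Subtype.val hab).symm ?_
  rw [Nat.card_congr (centXT a).toEquiv, card_cent h2 e Nat.prime_three (by norm_num) ha, ha', e.apply_symm_apply]
  exact hd.mul_right 2

theorem norm23 {L : Type u} [Group L] (h : Spor.IsoB L) {x : L} (hx : orderOf x = 23) :
    Nat.card (centralizer ({x} : Set L)) = 46 ∧
      Nat.card (normalizer ((zpowers x : Subgroup L) : Set L)) = 11 * 46 := by
  have hN : Nat.card L = 4154781481226426191177580544000000 := NotCT.Orders.b h
  have hL : Finite L := Nat.finite_of_card_ne_zero (by rw [hN]; norm_num)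
  have hc := H715.Mon.Exact.B.cent23 sThree h hx
  refine ⟨hc, ?_⟩
  obtain ⟨e, he, h1, h2⟩ := H954.DR.CentB.arith (by norm_num : Nat.Prime 23) (by rw [hN]; norm_num) hx
  rw [hN, hc] at h2
  have hchk : ∀ e ∈ Nat.divisors (23 - 1), 4154781481226426191177580544000000 / (46 * e) % 23 = 1 % 23 → e = 11 := by
    decide +kernel
  rw [← h1, hc, hchk e (Nat.mem_divisors.2 ⟨he, by norm_num⟩) h2, mul_comm]

/-- **FROB-B, sub-box V.** -/
theorem card_ne_three_eleven {X : Type u} [Group X] (h : Spor.IsoB X) {y : X} (hy : orderOf y = 23) {V : Subgroup X}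
    (hyV : y ∈ normalizer (V : Set X)) : Nat.card V ≠ 3 ^ 11 := by
  have hN : Nat.card X = 4154781481226426191177580544000000 := NotCT.Orders.b h
  have hL : Finite X := Nat.finite_of_card_ne_zero (by rw [hN]; norm_num)
  intro hV
  exact no_V (by rw [hN]; norm_num) (by rw [hN]; norm_num) (by rw [hN]; norm_num) (fun y hy => (norm23 h hy).1)
    (fun y hy => (norm23 h hy).2) (fun v u hv hu hvu => three_eleven h hv hu hvu) hy hV hyV

/-- the form of the engine -/
theorem hV {X : Type u} [Group X] (h : Spor.IsoB X) : ∀ Q R : Subgroup X, Nat.card R = 23 → Nat.card Q = 3 ^ 11 →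
    R ≤ normalizer (Q : Set X) → False := by
  intro Q R hR hQ hle
  have : Fact (Nat.Prime 23) := ⟨by norm_num⟩
  have hf : Finite R := Nat.finite_of_card_ne_zero (by rw [hR]; norm_num)
  obtain ⟨y, hy⟩ := exists_prime_orderOf_dvd_card' (G := R) 23 (by rw [hR])
  exact card_ne_three_eleven h (y := (y : X)) (by rw [Subgroup.orderOf_coe, hy]) (hle y.2) hQ

end Cfsg.Agent.H25.S8
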