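import Mathlib

/-!
# No 3-subgroup of order `3 ^ 11` is normalised by an element of order 23 (helper25, S4908, row B)

Abstract part: `|C(y)| = 46`, `|N(⟨y⟩)| = 11 * 46`, no element of order 3 whose centralizer has order divisible by `3 ^ 11`
commutes with an element of order 11.
-/

set_option autoImplicit false

namespace Cfsg.Agent.H25.S8

open Subgroup

universe u

set_option linter.unusedSectionVars false

variable {G : Type u} [Group G] [Finite G]

/-- The fixed points of an element of prime order `r` normalising a finite subgroup `Q`. -/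
theorem card_modEq {r : ℕ} (hr : r.Prime) {x : G} (hx : orderOf x = r) (Q : Subgroup G)
    (hQ : x ∈ normalizer (Q : Set G)) :
    Nat.card Q ≡ Nat.card ↥(Q ⊓ centralizer ({x} : Set G)) [MOD r] := by
  have : Fact r.Prime := ⟨hr⟩
  have hZ : zpowers x ≤ normalizer (Q : Set G) := by rwa [zpowers_le]
  let f : zpowers x →* MulAut Q := Q.normalizerMonoidHom.comp (inclusion hZ)
  let _ : MulAction (zpowers x) Q := MulAction.compHom Q f
  have hf : ∀ (z : zpowers x) (y : Q), ((z • y : Q) : G) = z * y * (z : G)⁻¹ := by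
    intro z y
    rfl
  have hp : IsPGroup r (zpowers x) := IsPGroup.of_card (n := 1) (by rw [Nat.card_zpowers, hx, pow_one])
  have h1 := hp.card_modEq_card_fixedPoints Q
  refine h1.trans ?_
  have h2 : Nat.card (MulAction.fixedPoints (zpowers x) Q) = Nat.card ↥(Q ⊓ centralizer ({x} : Set G)) := by
    apply Nat.card_congr
    refine ⟨fun y => ⟨y.1, y.1.2, ?_⟩, fun y => ⟨⟨y.1, y.2.1⟩, ?_⟩, fun y => rfl, fun y => rfl⟩
    · have h3 := congrArg Subtype.val (y.2 ⟨x, mem_zpowers x⟩)
      rw [hf] at h3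
      change (y.1 : G) ∈ centralizer ({x} : Set G)
      rw [mem_centralizer_singleton_iff]
      exact (mul_inv_eq_iff_eq_mul.1 h3).symm
    · rintro ⟨z, hz⟩
      obtain ⟨k, rfl⟩ := mem_zpowers_iff.1 hz
      apply Subtype.ext
      rw [hf]
      have h3 : (y.1 : G) ∈ centralizer ({x} : Set G) := y.2.2
      rw [mem_centralizer_singleton_iff] at h3
      have h4 : Commute (x ^ k) (y.1 : G) := (show Commute x (y.1 : G) from h3.symm).zpow_left k
      change x ^ k * (y.1 : G) * (x ^ k)⁻¹ = _
      rw [h4.eq, mul_assoc, mul_inv_cancel, mul_one]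
  rw [h2]

/-- a 3-subgroup normalised by `y`, `|y| = 23`, `|C(y)| = 46`, has order `1 mod 23` -/
theorem card_mod23 {y : G} (hy : orderOf y = 23) (hC : Nat.card (centralizer ({y} : Set G)) = 46) {Q : Subgroup G}
    {k : ℕ} (hQ : Nat.card Q = 3 ^ k) (hyQ : y ∈ normalizer (Q : Set G)) : 3 ^ k % 23 = 1 := by
  have h1 := card_modEq (by norm_num) hy Q hyQ
  have h2 : Nat.card ↥(Q ⊓ centralizer ({y} : Set G)) = 1 := by
    have h3 : Nat.card ↥(Q ⊓ centralizer ({y} : Set G)) ∣ 3 ^ k := hQ ▸ card_dvd_of_le inf_le_left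
    have h4 : Nat.card ↥(Q ⊓ centralizer ({y} : Set G)) ∣ 46 := hC ▸ card_dvd_of_le inf_le_right
    exact Nat.eq_one_of_dvd_coprimes (Nat.Coprime.pow_left k (by norm_num : Nat.Coprime 3 46)) h3 h4
  rw [hQ, h2] at h1
  exact h1

theorem pow_mod {k : ℕ} (hk : k ≤ 13) (h : 3 ^ k % 23 = 1) : k = 0 ∨ k = 11 := by
  interval_cases k <;> simp_all

/-- `V` with `|V| = 3 ^ 11` normalised by `y` is abelian -/
theorem comm_V {y : G} (hy : orderOf y = 23) (hC : Nat.card (centralizer ({y} : Set G)) = 46) {V : Subgroup G}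
    (hV : Nat.card V = 3 ^ 11) (hyV : y ∈ normalizer (V : Set G)) : ∀ a ∈ V, ∀ b ∈ V, a * b = b * a := by
  have : Fact (Nat.Prime 3) := ⟨Nat.prime_three⟩
  have hVp : IsPGroup 3 V := IsPGroup.of_card hV
  set Z : Subgroup G := (center V).map V.subtype with hZ
  have hyZ : y ∈ normalizer (Z : Set G) := by
    have hmem : ∀ g : G, g ∈ normalizer (V : Set G) → ∀ z ∈ Z, g * z * g⁻¹ ∈ Z := by
      rintro g hg _ ⟨z, hz, rfl⟩
      have h1 : g * (z : G) * g⁻¹ ∈ V := (mem_normalizer_iff.1 hg z).1 z.2
      refine ⟨⟨g * z * g⁻¹, h1⟩, ?_, rfl⟩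
      rw [SetLike.mem_coe, mem_center_iff]
      intro v
      have h2 : g⁻¹ * (v : G) * g ∈ V := by
        have := (mem_normalizer_iff.1 (inv_mem hg) v).1 v.2
        rwa [inv_inv] at this
      have h3 := congrArg Subtype.val (mem_center_iff.1 hz ⟨g⁻¹ * v * g, h2⟩)
      apply Subtype.ext
      change (v : G) * (g * z * g⁻¹) = g * z * g⁻¹ * v
      have h4 : g⁻¹ * (v : G) * g * z = z * (g⁻¹ * v * g) := h3
      calc (v : G) * (g * z * g⁻¹) = g * (g⁻¹ * v * g * z) * g⁻¹ := by group
        _ = g * (z * (g⁻¹ * v * g)) * g⁻¹ := by rw [h4]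
        _ = _ := by group
    rw [mem_normalizer_iff]
    intro z
    refine ⟨hmem y hyV z, fun h => ?_⟩
    have := hmem y⁻¹ (inv_mem hyV) _ h
    rw [inv_inv] at this
    convert this using 1
    group
  have hZc : Nat.card Z = Nat.card (center V) := Nat.card_congr ((center V).equivMapOfInjective _ V.subtype_injective).toEquiv.symm
  obtain ⟨k, hk⟩ := IsPGroup.iff_card.1 (hVp.to_subgroup (center V))
  have hnt : Nontrivial V := by
    rw [← Finite.one_lt_card_iff_nontrivial, hV]
    norm_num
  have hk0 : k ≠ 0 := by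
    rintro rfl
    have h1 : 1 < Nat.card (center V) := Finite.one_lt_card_iff_nontrivial.2 hVp.center_nontrivial
    rw [hk] at h1
    norm_num at h1
  have hk11 : k ≤ 11 := by
    have h1 := (center V).card_subgroup_dvd_card
    rw [hk, hV] at h1
    exact (Nat.pow_dvd_pow_iff_le_right (by norm_num)).1 h1
  have h1 := card_mod23 hy hC (hZc.trans hk) hyZ
  have h2 : k = 11 := (pow_mod (by omega) h1).resolve_left hk0
  have h3 : center V = ⊤ := by
    apply Subgroup.eq_top_of_card_eq
    rw [hk, h2, hV]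
  intro a ha b hb
  have h4 : (⟨b, hb⟩ : V) ∈ center V := h3 ▸ mem_top _
  exact congrArg Subtype.val (mem_center_iff.1 h4 ⟨a, ha⟩)

/-- the normalizer of `V` has no element of order 11 -/
theorem no_eleven {V : Subgroup G} (hV : Nat.card V = 3 ^ 11) (hab : ∀ a ∈ V, ∀ b ∈ V, a * b = b * a)
    (hNC : ∀ v u : G, orderOf v = 3 → orderOf u = 11 → v * u = u * v →
      ¬ 3 ^ 11 ∣ Nat.card (centralizer ({v} : Set G))) {u : G} (hu : orderOf u = 11)
    (huV : u ∈ normalizer (V : Set G)) : False := by
  have : Fact (Nat.Prime 3) := ⟨Nat.prime_three⟩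
  have h1 := card_modEq (by norm_num) hu V huV
  have hd : Nat.card ↥(V ⊓ centralizer ({u} : Set G)) ∣ 3 ^ 11 := hV ▸ card_dvd_of_le inf_le_left
  obtain ⟨k, -, hk⟩ := (Nat.dvd_prime_pow Nat.prime_three).1 hd
  have hk0 : k ≠ 0 := by
    rintro rfl
    rw [hV, hk] at h1
    exact absurd h1 (by decide)
  have h3 : 3 ∣ Nat.card ↥(V ⊓ centralizer ({u} : Set G)) := hk ▸ dvd_pow_self 3 hk0
  obtain ⟨v, hv⟩ := exists_prime_orderOf_dvd_card' 3 h3
  have hvV : (v : G) ∈ V := v.2.1
  have hvu : (v : G) ∈ centralizer ({u} : Set G) := v.2.2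
  rw [mem_centralizer_singleton_iff] at hvu
  refine hNC v u (by rw [Subgroup.orderOf_coe, hv]) hu hvu ?_
  rw [← hV]
  apply card_dvd_of_le
  intro a ha
  rw [mem_centralizer_singleton_iff]
  exact hab a ha v hvV

/-- an element of `N(⟨y⟩)` of order prime to 11 centralises `y` -/
theorem mem_cent {y : G} (hC : Nat.card (centralizer ({y} : Set G)) = 46)
    (hN : Nat.card (normalizer ((zpowers y : Subgroup G) : Set G)) = 11 * 46) {g : G}
    (hg : g ∈ normalizer ((zpowers y : Subgroup G) : Set G)) (h11 : ¬ 11 ∣ orderOf g) :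
    g ∈ centralizer ({y} : Set G) := by
  set N := normalizer ((zpowers y : Subgroup G) : Set G)
  have hCN : centralizer ({y} : Set G) ≤ N := by
    intro c hc
    rw [mem_centralizer_singleton_iff] at hc
    have hmem : ∀ d : G, d * y = y * d → ∀ z ∈ zpowers y, d * z * d⁻¹ ∈ zpowers y := by
      intro d hd z hz
      obtain ⟨k, rfl⟩ := mem_zpowers_iff.1 hz
      have h1 : d * y ^ k = y ^ k * d := ((show Commute d y from hd).zpow_right k).eq
      rw [h1, mul_inv_cancel_right]
      exact hz
    refine mem_normalizer_iff.2 fun z => ⟨hmem c hc z, fun h => ?_⟩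
    have h2 := hmem c⁻¹ ((show Commute c y from hc).inv_left).eq _ h
    rw [inv_inv] at h2
    convert h2 using 1
    group
  set C := (centralizer ({y} : Set G)).subgroupOf N with hCdef
  have hCc : Nat.card C = 46 := by
    rw [hCdef, Nat.card_congr (subgroupOfEquivOfLe hCN).toEquiv, hC]
  have hCn : C.Normal := by
    constructor
    intro c hc n
    rw [hCdef, mem_subgroupOf, mem_centralizer_singleton_iff] at hc ⊢
    have h1 : ((n : G))⁻¹ * y * n ∈ zpowers y := by
      have h2 := (mem_normalizer_iff.1 (inv_mem n.2) y).1 (mem_zpowers y)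
      rwa [inv_inv] at h2
    obtain ⟨k, hk⟩ := mem_zpowers_iff.1 h1
    have h3 : Commute (c : G) y := hc
    have h4 : (c : G) * ((n : G)⁻¹ * y * n) = ((n : G)⁻¹ * y * n) * c := by
      rw [← hk]
      exact (h3.zpow_right k).eq
    change (n : G) * c * (n : G)⁻¹ * y = y * ((n : G) * c * (n : G)⁻¹)
    calc (n : G) * c * (n : G)⁻¹ * y = n * (c * ((n : G)⁻¹ * y * n)) * (n : G)⁻¹ := by group
      _ = n * (((n : G)⁻¹ * y * n) * c) * (n : G)⁻¹ := by rw [h4]
      _ = _ := by group
  have hidx : C.index = 11 := by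
    have h1 := C.card_mul_index
    rw [hCc, hN] at h1
    omega
  have h1 : (⟨g, hg⟩ : N) ^ 11 ∈ C := by
    rw [← hidx]
    exact C.pow_index_mem _
  have hcop : Nat.Coprime 11 (orderOf g) := (Nat.Prime.coprime_iff_not_dvd (by norm_num)).2 h11
  obtain ⟨m, hm1, hm2⟩ := Nat.chineseRemainder hcop 0 1
  have h2 : (⟨g, hg⟩ : N) ^ m ∈ C := by
    obtain ⟨c, rfl⟩ := (Nat.modEq_zero_iff_dvd).1 hm1
    rw [pow_mul]
    exact pow_mem h1 c
  rw [hCdef, mem_subgroupOf] at h2
  have h3 : g ^ m = g := by
    conv_rhs => rw [← pow_one g]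
    exact pow_eq_pow_iff_modEq.2 hm2
  change g ^ m ∈ _ at h2
  rwa [h3] at h2

/-- **Main lemma.** -/
theorem no_V (h14 : ¬ 3 ^ 14 ∣ Nat.card G) (h13 : 3 ^ 13 ∣ Nat.card G) (h529 : ¬ 23 ^ 2 ∣ Nat.card G)
    (hC : ∀ y : G, orderOf y = 23 → Nat.card (centralizer ({y} : Set G)) = 46)
    (hN : ∀ y : G, orderOf y = 23 → Nat.card (normalizer ((zpowers y : Subgroup G) : Set G)) = 11 * 46)
    (hNC : ∀ v u : G, orderOf v = 3 → orderOf u = 11 → v * u = u * v →
      ¬ 3 ^ 11 ∣ Nat.card (centralizer ({v} : Set G)))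
    {y : G} (hy : orderOf y = 23) {V : Subgroup G} (hV : Nat.card V = 3 ^ 11) (hyV : y ∈ normalizer (V : Set G)) :
    False := by
  have f3 : Fact (Nat.Prime 3) := ⟨Nat.prime_three⟩
  have f23 : Fact (Nat.Prime 23) := ⟨by norm_num⟩
  have hab := comm_V hy (hC y hy) hV hyV
  set M : Subgroup G := normalizer (V : Set G) with hM
  have h11 : ∀ g ∈ M, ¬ 11 ∣ orderOf g := by
    intro g hg hd
    have ho : orderOf (g ^ (orderOf g / 11)) = 11 := orderOf_pow_orderOf_div (orderOf_pos g).ne' hd
    exact no_eleven hV hab hNC ho (pow_mem hg _)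
  have hVM : V ≤ M := le_normalizer
  -- the 3-part of `M`
  have h12 : 3 ^ 12 ∣ Nat.card M := by
    obtain ⟨P, hP⟩ := (IsPGroup.of_card hV : IsPGroup 3 V).exists_le_sylow
    have hPc : Nat.card (P : Subgroup G) = 3 ^ 13 := by
      obtain ⟨k, hk⟩ := IsPGroup.iff_card.1 P.2
      have h1 := P.card_eq_multiplicity
      have h2 : k = 13 := by
        apply le_antisymm
        · by_contra hlt
          exact h14 ((pow_dvd_pow 3 (by omega)).trans (hk ▸ (P : Subgroup G).card_subgroup_dvd_card))
        · by_contra hlt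
          have h3 := P.not_dvd_index
          have h4 := (P : Subgroup G).card_mul_index
          rw [hk] at h4
          apply h3
          have h5 : 3 ^ k * 3 ∣ 3 ^ k * (P : Subgroup G).index := by
            rw [h4, ← pow_succ]
            exact (pow_dvd_pow 3 (by omega)).trans h13
          exact Nat.dvd_of_mul_dvd_mul_left (by positivity) h5
      rw [hk, h2]
    have hlt : V.subgroupOf (P : Subgroup G) < ⊤ := by
      rw [lt_top_iff_ne_top]
      intro h
      have h1 : (P : Subgroup G) ≤ V := subgroupOf_eq_top.1 h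
      have h2 := card_dvd_of_le h1
      rw [hPc, hV] at h2
      exact absurd ((Nat.pow_dvd_pow_iff_le_right (by norm_num)).1 h2) (by norm_num)
    have hnil : Group.IsNilpotent (P : Subgroup G) := P.2.isNilpotent
    have h1 := (Group.normalizerCondition_of_isNilpotent (G := (P : Subgroup G))) _ hlt
    set N1 : Subgroup (P : Subgroup G) := normalizer ((V.subgroupOf (P : Subgroup G) : Subgroup (P : Subgroup G)) : Set (P : Subgroup G)) with hN1
    have hV1 : Nat.card (V.subgroupOf (P : Subgroup G)) = 3 ^ 11 := by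
      rw [Nat.card_congr (subgroupOfEquivOfLe hP).toEquiv, hV]
    obtain ⟨k, hk⟩ := IsPGroup.iff_card.1 (P.2.to_subgroup N1)
    have h2 : 11 < k := by
      by_contra hle
      have h3 : Nat.card N1 ≤ Nat.card (V.subgroupOf (P : Subgroup G)) := by
        rw [hk, hV1]
        exact Nat.pow_le_pow_right (by norm_num) (by omega)
      exact absurd (Subgroup.eq_of_le_of_card_ge h1.le h3) h1.ne
    have h3 : Nat.card N1 ∣ Nat.card M := by
      have h4 : N1.map (P : Subgroup G).subtype ≤ M := by
        rintro _ ⟨g, hg, rfl⟩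
        rw [hM, mem_normalizer_iff]
        intro v
        have hgP : ((P : Subgroup G).subtype g) ∈ (P : Subgroup G) := g.2
        constructor
        · intro hv
          have h5 := (mem_normalizer_iff.1 hg ⟨v, hP hv⟩).1 (by rw [mem_subgroupOf]; exact hv)
          rw [mem_subgroupOf] at h5
          exact h5
        · intro hv
          have hvP : v ∈ (P : Subgroup G) := by
            have h6 := hP hv
            have h7 := mul_mem (mul_mem (inv_mem hgP) h6) hgP
            convert h7 using 1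
            group
          have h5 := (mem_normalizer_iff.1 hg ⟨v, hvP⟩).2 (by rw [mem_subgroupOf]; exact hv)
          rw [mem_subgroupOf] at h5
          exact h5
      have h5 := card_dvd_of_le h4
      rwa [Nat.card_congr (N1.equivMapOfInjective _ (P : Subgroup G).subtype_injective).toEquiv.symm] at h5
    exact ((pow_dvd_pow 3 h2).trans (hk ▸ dvd_refl _)).trans h3
  -- the Sylow 23-subgroup of `M`
  set y1 : M := ⟨y, hyV⟩ with hy1
  have hoy1 : orderOf y1 = 23 := by rw [← hy, hy1, Subgroup.orderOf_mk]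
  have hdM : Nat.card M ∣ Nat.card G := M.card_subgroup_dvd_card
  have hYp : IsPGroup 23 (zpowers y1) := IsPGroup.of_card (n := 1) (by rw [Nat.card_zpowers, hoy1, pow_one])
  have hYi : ¬ 23 ∣ (zpowers y1).index := by
    intro h
    apply h529
    refine dvd_trans ?_ hdM
    rw [← (zpowers y1).card_mul_index, Nat.card_zpowers, hoy1, pow_two]
    exact Nat.mul_dvd_mul_left 23 h
  let Y : Sylow 23 M := hYp.toSylow hYi
  have hYc : (Y : Subgroup M) = zpowers y1 := rfl
  have hle : normalizer ((Y : Subgroup M) : Set M) ≤ centralizer ((Y : Subgroup M) : Set M) := by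
    intro g hg
    have hg1 : (g : G) ∈ normalizer ((zpowers y : Subgroup G) : Set G) := by
      have hmem : ∀ d : M, d ∈ normalizer ((Y : Subgroup M) : Set M) → ∀ z ∈ zpowers y, (d : G) * z * (d : G)⁻¹ ∈ zpowers y := by
        intro d hd z hz
        obtain ⟨k, rfl⟩ := mem_zpowers_iff.1 hz
        have h1 : y1 ^ k ∈ (Y : Subgroup M) := by rw [hYc]; exact zpow_mem (mem_zpowers y1) k
        have h2 := (mem_normalizer_iff.1 hd (y1 ^ k)).1 h1
        rw [hYc] at h2
        obtain ⟨l, hl⟩ := mem_zpowers_iff.1 h2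
        have h3 := congrArg Subtype.val hl
        refine mem_zpowers_iff.2 ⟨l, ?_⟩
        simpa using h3
      refine mem_normalizer_iff.2 fun z => ⟨hmem g hg z, fun h => ?_⟩
      have h2 := hmem g⁻¹ (inv_mem hg) _ h
      rw [Subgroup.coe_inv, inv_inv] at h2
      convert h2 using 1
      group
    have h2 := mem_cent (hC y hy) (hN y hy) hg1 (h11 g g.2)
    rw [mem_centralizer_singleton_iff] at h2
    rw [hYc, mem_centralizer_iff]
    intro z hz
    obtain ⟨k, rfl⟩ := mem_zpowers_iff.1 (SetLike.mem_coe.1 hz)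
    have h3 : Commute (g : M) y1 := Subtype.ext h2
    exact (h3.zpow_right k).eq.symm
  let K : Subgroup M := (MonoidHom.transferSylow Y hle).ker
  have hK : Subgroup.IsComplement' K (Y : Subgroup M) := MonoidHom.ker_transferSylow_isComplement' Y hle
  have hKc : Nat.card K * 23 = Nat.card M := by
    have h1 := hK.card_mul_card
    rwa [show Nat.card (Y : Subgroup M) = 23 by rw [hYc, Nat.card_zpowers, hoy1]] at h1
  have hK23 : ¬ 23 ∣ Nat.card K := by
    intro h
    apply h529
    refine dvd_trans ?_ hdM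
    rw [← hKc, pow_two]
    exact Nat.mul_dvd_mul_right h 23
  obtain ⟨S⟩ : Nonempty (Sylow 3 K) := inferInstance
  have hfr := Sylow.normalizer_sup_eq_top S
  set S1 : Subgroup M := (S : Subgroup K).map K.subtype with hS1
  have h23 : 23 ∣ Nat.card (normalizer (S1 : Set M)) := by
    have h1 := relIndex_sup_right (normalizer (S1 : Set M)) K
    rw [hfr, relIndex_top_right] at h1
    have h2 : K.index = 23 := by
      have h3 := K.card_mul_index
      rw [← hKc] at h3
      exact Nat.eq_of_mul_eq_mul_left Nat.card_pos h3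
    rw [← h2, h1]
    exact (K.subgroupOf (normalizer (S1 : Set M))).index_dvd_card
  obtain ⟨w, hw⟩ := exists_prime_orderOf_dvd_card' 23 h23
  have how : orderOf (((w : normalizer (S1 : Set M)) : M) : G) = 23 := by
    rw [Subgroup.orderOf_coe, Subgroup.orderOf_coe, hw]
  set S2 : Subgroup G := S1.map M.subtype with hS2
  have hwS : (((w : normalizer (S1 : Set M)) : M) : G) ∈ normalizer (S2 : Set G) := by
    have hmem : ∀ d : M, d ∈ normalizer (S1 : Set M) → ∀ z ∈ S2, (d : G) * z * (d : G)⁻¹ ∈ S2 := by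
      rintro d hd _ ⟨z, hz, rfl⟩
      exact ⟨d * z * d⁻¹, (mem_normalizer_iff.1 hd z).1 hz, rfl⟩
    refine mem_normalizer_iff.2 fun z => ⟨hmem _ w.2 z, fun h => ?_⟩
    have h2 := hmem _ (inv_mem w.2) _ h
    rw [Subgroup.coe_inv, inv_inv] at h2
    convert h2 using 1
    group
  have hSc : Nat.card S2 = Nat.card (S : Subgroup K) := by
    rw [hS2, Nat.card_congr (S1.equivMapOfInjective _ M.subtype_injective).toEquiv.symm, hS1,
      Nat.card_congr ((S : Subgroup K).equivMapOfInjective _ K.subtype_injective).toEquiv.symm]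
  obtain ⟨k, hk⟩ := IsPGroup.iff_card.1 S.2
  have hk12 : 12 ≤ k := by
    by_contra hlt
    have h1 := S.not_dvd_index
    have h2 := (S : Subgroup K).card_mul_index
    rw [hk] at h2
    apply h1
    have h3 : 3 ^ k * 3 ∣ 3 ^ k * (S : Subgroup K).index := by
      rw [h2, ← pow_succ]
      refine (pow_dvd_pow 3 (show k + 1 ≤ 12 by omega)).trans ?_
      rw [← hKc] at h12
      exact (Nat.Coprime.dvd_mul_right (Nat.Coprime.pow_left 12 (by norm_num : Nat.Coprime 3 23))).1 h12
    exact Nat.dvd_of_mul_dvd_mul_left (by positivity) h3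
  have hk13 : k ≤ 13 := by
    by_contra hlt
    apply h14
    refine (pow_dvd_pow 3 (show 14 ≤ k by omega)).trans ?_
    rw [← hk, ← hSc]
    exact S2.card_subgroup_dvd_card
  have h1 := pow_mod hk13 (card_mod23 how (hC _ how) (hSc.trans hk) hwS)
  omega

end Cfsg.Agent.H25.S8
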